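import Groth.Agent.QS97.Formal
import Mathlib

/-!
# Coefficients in degree at most two
-/

set_option autoImplicit false

universe u

namespace QS97

open MvPowerSeries

variable {A : Type u} [CommRing A] {n : ℕ}

/-- The exponent of `X i * X j`. -/
noncomputable def pairExp (i j : Fin n) : Fin n →₀ ℕ := Finsupp.single i 1 + Finsupp.single j 1

theorem pairExp_comm (i j : Fin n) : pairExp i j = pairExp j i := add_comm _ _

theorem pairExp_inj {i j a b : Fin n} (hij : i ≤ j) (hab : a ≤ b) (h : pairExp i j = pairExp a b) :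
    i = a ∧ j = b := by
  simp only [pairExp] at h
  have h1 := DFunLike.congr_fun h i
  have h2 := DFunLike.congr_fun h j
  have h3 := DFunLike.congr_fun h a
  have h4 := DFunLike.congr_fun h b
  simp only [Finsupp.add_apply, Finsupp.single_apply] at h1 h2 h3 h4
  split_ifs at h1 h2 h3 h4 <;> first | omega | (subst_vars; exact ⟨rfl, rfl⟩) | (constructor <;> omega)

theorem exists_single {e : Fin n →₀ ℕ} (he : e.degree = 1) : ∃ j, e = Finsupp.single j 1 := by
  obtain ⟨i, hi⟩ : ∃ i, e i ≠ 0 := by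
    have h0 : e ≠ 0 := fun h => by subst h; rw [map_zero] at he; omega
    simpa using Finsupp.ne_iff.1 h0
  obtain ⟨c, hc⟩ := exists_add_of_le
    (Finsupp.single_le_iff.2 (Nat.one_le_iff_ne_zero.2 hi) : Finsupp.single i 1 ≤ e)
  have hcd : c.degree = 0 := by
    rw [hc, map_add, Finsupp.degree_single] at he; omega
  exact ⟨i, by rw [hc, (Finsupp.degree_eq_zero_iff c).1 hcd, add_zero]⟩

theorem exists_pairExp {e : Fin n →₀ ℕ} (he : e.degree = 2) : ∃ i j, i ≤ j ∧ e = pairExp i j := by
  obtain ⟨i, hi⟩ : ∃ i, e i ≠ 0 := by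
    have h0 : e ≠ 0 := fun h => by subst h; rw [map_zero] at he; omega
    simpa using Finsupp.ne_iff.1 h0
  obtain ⟨c, hc⟩ := exists_add_of_le
    (Finsupp.single_le_iff.2 (Nat.one_le_iff_ne_zero.2 hi) : Finsupp.single i 1 ≤ e)
  have hcd : c.degree = 1 := by
    rw [hc, map_add, Finsupp.degree_single] at he; omega
  obtain ⟨j, rfl⟩ := exists_single hcd
  rcases le_total i j with h | h
  · exact ⟨i, j, h, hc⟩
  · exact ⟨j, i, h, by rw [pairExp_comm]; exact hc⟩

theorem coeff_quadEval (q : Fin n → Fin n → A) (e : Fin n →₀ ℕ) :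
    coeff e (VanCyc.quadEval (fun i j => C (q i j)) (X : Fin n → MvPowerSeries (Fin n) A)) =
      ∑ i, ∑ j, if i ≤ j ∧ e = pairExp i j then q i j else 0 := by
  classical
  simp only [VanCyc.quadEval, map_sum]
  refine Finset.sum_congr rfl fun i _ => Finset.sum_congr rfl fun j _ => ?_
  by_cases hij : i ≤ j
  · rw [if_pos hij, mul_assoc, coeff_C_mul, X_def, X_def, monomial_mul_monomial, one_mul,
      coeff_monomial, show Finsupp.single i 1 + Finsupp.single j 1 = pairExp i j from rfl]
    simp [hij]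
  · rw [if_neg hij, map_zero, if_neg (fun h => hij h.1)]

theorem coeff_quadEval_pairExp (q : Fin n → Fin n → A) {a b : Fin n} (hab : a ≤ b) :
    coeff (pairExp a b) (VanCyc.quadEval (fun i j => C (q i j)) (X : Fin n → MvPowerSeries (Fin n) A)) =
      q a b := by
  rw [coeff_quadEval, Finset.sum_eq_single a, Finset.sum_eq_single b]
  · rw [if_pos ⟨hab, rfl⟩]
  · intro j _ hj
    rw [if_neg fun h => hj (pairExp_inj h.1 hab h.2.symm).2]
  · simp
  · intro i _ hi
    refine Finset.sum_eq_zero fun j _ => ?_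
    rw [if_neg fun h => hi (pairExp_inj h.1 hab h.2.symm).1]
  · simp

theorem coeff_quadEval_of_ne_two (q : Fin n → Fin n → A) {e : Fin n →₀ ℕ} (he : e.degree ≠ 2) :
    coeff e (VanCyc.quadEval (fun i j => C (q i j)) (X : Fin n → MvPowerSeries (Fin n) A)) = 0 := by
  rw [coeff_quadEval]
  refine Finset.sum_eq_zero fun i _ => Finset.sum_eq_zero fun j _ => if_neg ?_
  rintro ⟨-, rfl⟩
  simp [pairExp, map_add] at he

theorem quadPart_eq (F : MvPowerSeries (Fin n) A) {i j : Fin n} (h : i ≤ j) :
    VanCyc.quadPart F i j = coeff (pairExp i j) F := by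
  rcases h.lt_or_eq with h | rfl
  · simp [VanCyc.quadPart, h.ne, h, pairExp]
  · simp [VanCyc.quadPart, pairExp, ← Finsupp.single_add]

theorem coeff_single_pderiv (F : MvPowerSeries (Fin n) A) (i j : Fin n) :
    coeff (Finsupp.single j 1) (pderiv A i F) = VanCyc.polarMatrix (VanCyc.quadPart F) j i := by
  classical
  rw [coeff_pderiv]
  simp only [VanCyc.polarMatrix]
  rcases lt_trichotomy j i with h | rfl | h
  · rw [if_neg h.ne, if_pos h, quadPart_eq F h.le]
    simp [pairExp, Finsupp.single_eq_of_ne, h.ne, h.ne']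
  · rw [if_pos rfl, quadPart_eq F le_rfl]
    simp [pairExp, mul_comm, one_add_one_eq_two]
  · rw [if_neg h.ne', if_neg h.not_gt, quadPart_eq F h.le, pairExp_comm]
    simp [pairExp, Finsupp.single_eq_of_ne, h.ne, h.ne']

theorem polarMatrix_quadPart_eq (F : MvPowerSeries (Fin n) A) (q : Fin n → Fin n → A)
    (h : ∀ i j, i ≤ j → coeff (pairExp i j) F = q i j) :
    VanCyc.polarMatrix (VanCyc.quadPart F) = VanCyc.polarMatrix q := by
  ext i j
  simp only [VanCyc.polarMatrix]
  split_ifs with h1 h2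
  · rw [quadPart_eq F le_rfl, h i i le_rfl]
  · rw [quadPart_eq F h2.le, h i j h2.le]
  · have h3 : j ≤ i := le_of_not_gt h2
    rw [quadPart_eq F h3, h j i h3]

end QS97
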