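import Groth.Agent.QS97.Hessian
import Groth.Agent.CAlg1.SectionPowerSeries
import Groth.Agent.EGA4H10.CompleteJ2
import Mathlib

/-!
# The completed local ring of a hypersurface at a rational point

`QS97.exists_hyper_completion`: for `f(pt) = 0` the completion of `(k[x]/(f))_P` is `k[[x]]/(g)`,
`g` the Taylor expansion of `f` at `pt`.
-/

set_option autoImplicit false

universe u

namespace QS97

open MvPowerSeries Groth.Agent.CAlg6 IsLocalRing

/-- The completion of a local ring. -/
abbrev Cpl (O : Type u) [CommRing O] [IsLocalRing O] : Type u :=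
  AdicCompletion (maximalIdeal O) O

theorem equiv_of_hom {k : Type u} [CommRing k] {O S : Type u} [CommRing O] [IsLocalRing O]
    [Algebra k O] [CommRing S] [Algebra k S] (I : Ideal S) [IsAdicComplete I S] (φ : O →ₐ[k] S)
    (hle1 : ∀ x ∈ maximalIdeal O, φ x ∈ I) (hsurj : ∀ N y, ∃ x, φ x - y ∈ I ^ N)
    (hinj : ∀ N x, φ x ∈ I ^ N → x ∈ maximalIdeal O ^ N) : Nonempty (Cpl O ≃ₐ[k] S) := by
  have hle : ∀ N, maximalIdeal O ^ N ≤ (I ^ N).comap φ := fun N =>
    le_trans (Ideal.pow_right_mono (fun x hx => Ideal.mem_comap.mpr (hle1 x hx)) N)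
      (Ideal.le_comap_pow φ N)
  have hbij : ∀ N, Function.Bijective (Ideal.quotientMapₐ (I ^ N) φ (hle N)) := by
    intro N
    refine ⟨(injective_iff_map_eq_zero _).mpr fun x hx => ?_, fun y => ?_⟩
    · obtain ⟨x, rfl⟩ := Ideal.Quotient.mk_surjective x
      change Ideal.Quotient.mk (I ^ N) (φ x) = 0 at hx
      exact Ideal.Quotient.eq_zero_iff_mem.mpr (hinj N x (Ideal.Quotient.eq_zero_iff_mem.mp hx))
    · obtain ⟨y, rfl⟩ := Ideal.Quotient.mk_surjective y
      obtain ⟨x, hx⟩ := hsurj N y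
      refine ⟨Ideal.Quotient.mk _ x, ?_⟩
      show Ideal.Quotient.mk (I ^ N) (φ x) = _
      exact Ideal.Quotient.eq.mpr hx
  obtain ⟨E⟩ := Groth.Agent.CAlg1.completion_equiv_of_bijective_quotients _ I φ hle hbij
  exact ⟨E.trans ((AdicCompletion.ofAlgEquiv I).restrictScalars k).symm⟩

variable {k : Type u} [Field k] {n : ℕ}

theorem mem_pow_of_ordGE : ∀ (N : ℕ) {F : MvPowerSeries (Fin n) k}, OrdGE N F →
    F ∈ maximalIdeal (MvPowerSeries (Fin n) k) ^ N := by
  intro N
  induction N with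
  | zero => simp
  | succ N ih =>
    intro F hF
    obtain ⟨G, hG, rfl⟩ := exists_decomp hF
    refine Ideal.sum_mem _ fun i _ => ?_
    rw [pow_succ']
    exact Ideal.mul_mem_mul (mem_maximalIdeal_iff.2 (constantCoeff_X i)) (ih (hG i))

theorem ordGE_of_mem_pow : ∀ (N : ℕ) {F : MvPowerSeries (Fin n) k},
    F ∈ maximalIdeal (MvPowerSeries (Fin n) k) ^ N → OrdGE N F := by
  intro N
  induction N with
  | zero => intro F _; exact ordGE_zero F
  | succ N ih =>
    intro F hF
    rw [pow_succ] at hF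
    exact Submodule.mul_induction_on hF
      (fun x hx y hy => (ih hx).mul (ordGE_one_iff.2 (mem_maximalIdeal_iff.1 hy)))
      (fun x y hx hy => hx.add hy)

theorem ordGE_sub_truncTotal (N : ℕ) (F : MvPowerSeries (Fin n) k) :
    OrdGE N (F - ((truncTotal N F : MvPolynomial (Fin n) k) : MvPowerSeries (Fin n) k)) := by
  intro d hd
  rw [map_sub, MvPolynomial.coeff_coe, coeff_truncTotal _ hd]
  exact sub_self _

/-- Taylor expansion at `pt`. -/
noncomputable def taylor (pt : Fin n → k) :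
    MvPolynomial (Fin n) k →ₐ[k] MvPolynomial (Fin n) k :=
  MvPolynomial.aeval fun i => MvPolynomial.X i + MvPolynomial.C (pt i)

theorem taylor_taylor_neg (pt : Fin n → k) (p : MvPolynomial (Fin n) k) :
    taylor pt (taylor (-pt) p) = p := by
  have : (taylor pt).comp (taylor (-pt)) = AlgHom.id k _ := by
    refine MvPolynomial.algHom_ext fun i => ?_
    simp [taylor]
  exact DFunLike.congr_fun this p

theorem taylor_neg_taylor (pt : Fin n → k) (p : MvPolynomial (Fin n) k) :
    taylor (-pt) (taylor pt p) = p := by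
  simpa using taylor_taylor_neg (-pt) p

theorem constantCoeff_taylor (pt : Fin n → k) (p : MvPolynomial (Fin n) k) :
    MvPolynomial.constantCoeff (taylor pt p) = MvPolynomial.aeval pt p := by
  induction p using MvPolynomial.induction_on with
  | C a => simp [taylor]
  | add p q hp hq => simp [hp, hq]
  | mul_X p i hp => simp [taylor] at hp ⊢; left; exact hp

theorem pderiv_taylor (pt : Fin n → k) (i : Fin n) (p : MvPolynomial (Fin n) k) :
    MvPolynomial.pderiv i (taylor pt p) = taylor pt (MvPolynomial.pderiv i p) := by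
  induction p using MvPolynomial.induction_on with
  | C a => simp [taylor]
  | add p q hp hq => simp [hp, hq]
  | mul_X p j hp =>
    have hX : MvPolynomial.pderiv i (taylor pt (MvPolynomial.X j)) =
        taylor pt (MvPolynomial.pderiv i (MvPolynomial.X j)) := by
      rcases eq_or_ne j i with rfl | h
      · simp [taylor]
      · simp [taylor, MvPolynomial.pderiv_X_of_ne h]
    simp only [map_mul, MvPolynomial.pderiv_mul, map_add, hp, hX]

theorem mem_vanishing_pow (pt : Fin n → k) (N : ℕ) {p : MvPolynomial (Fin n) k}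
    (hp : p ∈ MvPolynomial.idealOfVars (Fin n) k ^ N) :
    taylor (-pt) p ∈ (MvPolynomial.vanishingIdeal k {pt} : Ideal (MvPolynomial (Fin n) k)) ^ N := by
  have h1 : (MvPolynomial.idealOfVars (Fin n) k).map (taylor (-pt)).toRingHom ≤
      MvPolynomial.vanishingIdeal k {pt} := by
    rw [MvPolynomial.idealOfVars, Ideal.map_span, Ideal.span_le]
    rintro _ ⟨_, ⟨i, rfl⟩, rfl⟩
    simp [taylor, MvPolynomial.mem_vanishingIdeal_singleton_iff]
  have h2 := Ideal.mem_map_of_mem (taylor (-pt)).toRingHom hp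
  rw [Ideal.map_pow] at h2
  exact Ideal.pow_right_mono h1 N h2

variable [IsAlgClosed k] (f : MvPolynomial (Fin n) k)
  (P : Ideal (MvPolynomial (Fin n) k ⧸ Ideal.span {f})) [P.IsMaximal]

theorem exists_point : ∃ pt : Fin n → k,
    P.comap (Ideal.Quotient.mk _) = MvPolynomial.vanishingIdeal k {pt} ∧
      MvPolynomial.aeval pt f = 0 := by
  have hmax : (P.comap (Ideal.Quotient.mk _)).IsMaximal :=
    Ideal.comap_isMaximal_of_surjective _ Ideal.Quotient.mk_surjective
  obtain ⟨pt, hpt⟩ := MvPolynomial.isMaximal_iff_eq_vanishingIdeal_singleton.mp hmax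
  refine ⟨pt, hpt, ?_⟩
  rw [← MvPolynomial.mem_vanishingIdeal_singleton_iff, ← hpt, Ideal.mem_comap,
    Ideal.Quotient.eq_zero_iff_mem.mpr (Ideal.mem_span_singleton_self f)]
  exact P.zero_mem

theorem exists_hyper_completion (pt : Fin n → k)
    (hpt : P.comap (Ideal.Quotient.mk _) = MvPolynomial.vanishingIdeal k {pt})
    (hf : MvPolynomial.aeval pt f = 0) :
    ∃ φ : Localization.AtPrime P →ₐ[k]
        (MvPowerSeries (Fin n) k ⧸ Ideal.span {((taylor pt f : MvPolynomial (Fin n) k) : MvPowerSeries (Fin n) k)}),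
      (∀ p : MvPolynomial (Fin n) k,
        φ (algebraMap (MvPolynomial (Fin n) k ⧸ Ideal.span {f}) (Localization.AtPrime P) (Ideal.Quotient.mk (Ideal.span {f}) p)) =
          Ideal.Quotient.mk _ ((taylor pt p : MvPolynomial (Fin n) k) : MvPowerSeries (Fin n) k)) ∧
      (∀ x ∈ maximalIdeal (Localization.AtPrime P),
        φ x ∈ (maximalIdeal (MvPowerSeries (Fin n) k)).map (Ideal.Quotient.mk _)) ∧
      (∀ i, ∃ x ∈ maximalIdeal (Localization.AtPrime P),
        φ x = Ideal.Quotient.mk _ (MvPowerSeries.X i)) ∧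
      (∀ N y, ∃ x, φ x - y ∈
        ((maximalIdeal (MvPowerSeries (Fin n) k)).map (Ideal.Quotient.mk _)) ^ N) ∧
      (∀ N x, φ x ∈ ((maximalIdeal (MvPowerSeries (Fin n) k)).map (Ideal.Quotient.mk _)) ^ N →
        x ∈ maximalIdeal (Localization.AtPrime P) ^ N) ∧
      Nonempty (Cpl (Localization.AtPrime P) ≃ₐ[k]
        (MvPowerSeries (Fin n) k ⧸
          Ideal.span {((taylor pt f : MvPolynomial (Fin n) k) : MvPowerSeries (Fin n) k)})) := by
  classical
  set g : MvPowerSeries (Fin n) k :=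
    ((taylor pt f : MvPolynomial (Fin n) k) : MvPowerSeries (Fin n) k) with hg
  let T : MvPolynomial (Fin n) k →ₐ[k] MvPowerSeries (Fin n) k ⧸ Ideal.span {g} :=
    (Ideal.Quotient.mkₐ k _).comp ((MvPolynomial.coeToMvPowerSeries.algHom k).comp (taylor pt))
  have hT : ∀ p, T p = Ideal.Quotient.mk _ ((taylor pt p : MvPolynomial (Fin n) k) :
      MvPowerSeries (Fin n) k) := fun p => by simp [T]
  have hTf : ∀ a ∈ Ideal.span {f}, T a = 0 := by
    intro a ha
    obtain ⟨c, rfl⟩ := Ideal.mem_span_singleton'.mp ha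
    rw [map_mul, hT f, Ideal.Quotient.eq_zero_iff_mem.mpr (Ideal.mem_span_singleton_self g), mul_zero]
  let T' : (MvPolynomial (Fin n) k ⧸ Ideal.span {f}) →ₐ[k] MvPowerSeries (Fin n) k ⧸ Ideal.span {g} :=
    Ideal.Quotient.liftₐ _ T hTf
  have hT' : ∀ p, T' (Ideal.Quotient.mk _ p) = T p := fun p => rfl
  have hcc : ∀ p : MvPolynomial (Fin n) k,
      constantCoeff ((taylor pt p : MvPolynomial (Fin n) k) : MvPowerSeries (Fin n) k) =
        MvPolynomial.aeval pt p := fun p => by
    rw [← coeff_zero_eq_constantCoeff_apply, MvPolynomial.coeff_coe, ← constantCoeff_taylor]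
    rfl
  have hmemP : ∀ p, Ideal.Quotient.mk _ p ∈ P ↔ MvPolynomial.aeval pt p = 0 := fun p => by
    rw [← Ideal.mem_comap, hpt, MvPolynomial.mem_vanishingIdeal_singleton_iff]
  have hunit : ∀ s : P.primeCompl, IsUnit (T' s) := by
    rintro ⟨s, hs⟩
    obtain ⟨p, rfl⟩ := Ideal.Quotient.mk_surjective s
    rw [hT', hT]
    refine IsUnit.map _ ?_
    rw [isUnit_iff_constantCoeff, isUnit_iff_ne_zero, hcc]
    exact fun h => hs ((hmemP p).mpr h)
  let φ : Localization.AtPrime P →ₐ[k] MvPowerSeries (Fin n) k ⧸ Ideal.span {g} :=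
    IsLocalization.liftAlgHom (M := P.primeCompl) hunit
  have hφ : ∀ b, φ (algebraMap _ (Localization.AtPrime P) b) = T' b := fun b => by
    simp [φ, IsLocalization.lift_eq]
  set 𝔫 : Ideal (MvPowerSeries (Fin n) k ⧸ Ideal.span {g}) :=
    (maximalIdeal (MvPowerSeries (Fin n) k)).map (Ideal.Quotient.mk _) with h𝔫
  have hmk : maximalIdeal (Localization.AtPrime P) =
      P.map (algebraMap _ (Localization.AtPrime P)) := (IsLocalization.AtPrime.map_eq_maximalIdeal P _).symm
  have hle1 : ∀ x ∈ maximalIdeal (Localization.AtPrime P), φ x ∈ 𝔫 := by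
    intro x hx
    obtain ⟨b, s, rfl⟩ := IsLocalization.exists_mk'_eq P.primeCompl x
    rw [IsLocalization.AtPrime.mk'_mem_maximal_iff _ P] at hx
    obtain ⟨p, rfl⟩ := Ideal.Quotient.mk_surjective b
    rw [IsLocalization.mk'_eq_mul_mk'_one, map_mul, hφ, hT', hT]
    exact Ideal.mul_mem_right _ _ (Ideal.mem_map_of_mem _
      (mem_maximalIdeal_iff.2 (by rw [hcc]; exact (hmemP p).mp hx)))
  have hsurj : ∀ N y, ∃ x, φ x - y ∈ 𝔫 ^ N := by
    intro N y
    obtain ⟨F, rfl⟩ := Ideal.Quotient.mk_surjective y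
    refine ⟨algebraMap _ (Localization.AtPrime P)
      (Ideal.Quotient.mk (Ideal.span {f}) (taylor (-pt) (truncTotal N F))), ?_⟩
    rw [hφ, hT', hT, taylor_taylor_neg, h𝔫, ← map_sub, ← Ideal.map_pow, ← neg_sub, map_neg]
    exact Ideal.neg_mem_iff _ |>.mpr (Ideal.mem_map_of_mem _ (mem_pow_of_ordGE N (ordGE_sub_truncTotal N F)))
  have hinj : ∀ N x, φ x ∈ 𝔫 ^ N → x ∈ maximalIdeal (Localization.AtPrime P) ^ N := by
    intro N x hx
    obtain ⟨b, s, rfl⟩ := IsLocalization.exists_mk'_eq P.primeCompl x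
    obtain ⟨p, rfl⟩ := Ideal.Quotient.mk_surjective b
    have hx' : T p ∈ 𝔫 ^ N := by
      have := Ideal.mul_mem_right (φ (algebraMap _ (Localization.AtPrime P) (s : MvPolynomial (Fin n) k ⧸ Ideal.span {f}))) _ hx
      rwa [← map_mul, IsLocalization.mk'_spec, hφ, hT'] at this
    rw [hT, h𝔫, ← Ideal.map_pow, Ideal.mem_map_iff_of_surjective _ Ideal.Quotient.mk_surjective] at hx'
    obtain ⟨F, hF, hFp⟩ := hx'
    obtain ⟨h, hh⟩ := Ideal.mem_span_singleton.mp (Ideal.Quotient.eq.mp hFp)
    let r : MvPolynomial (Fin n) k := taylor pt p + taylor pt f * truncTotal N h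
    have hr : r ∈ MvPolynomial.idealOfVars (Fin n) k ^ N := by
      rw [MvPolynomial.mem_pow_idealOfVars_iff']
      intro d hd
      have e : (r : MvPowerSeries (Fin n) k) = F - g * (h - (truncTotal N h : MvPolynomial (Fin n) k)) := by
        simp only [r, MvPolynomial.coe_add, MvPolynomial.coe_mul, ← hg]
        linear_combination -hh
      rw [← MvPolynomial.coeff_coe, e]
      exact ((ordGE_of_mem_pow N hF).add (OrdGE.neg (OrdGE.mul_left (ordGE_sub_truncTotal N h) g))) d hd |>
        fun h => by simpa [sub_eq_add_neg] using h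
    have hpr := mem_vanishing_pow pt N hr
    simp only [r, map_add, map_mul, taylor_neg_taylor] at hpr
    have hP : Ideal.Quotient.mk (Ideal.span {f}) p ∈ P ^ N := by
      have h1 := Ideal.mem_map_of_mem (Ideal.Quotient.mk (Ideal.span {f})) hpr
      rw [Ideal.map_pow, ← hpt, Ideal.map_comap_of_surjective _ Ideal.Quotient.mk_surjective] at h1
      rwa [map_add, map_mul, Ideal.Quotient.eq_zero_iff_mem.mpr (Ideal.mem_span_singleton_self f),
        zero_mul, add_zero] at h1
    rw [hmk, ← Ideal.map_pow, IsLocalization.mk'_eq_mul_mk'_one]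
    exact Ideal.mul_mem_right _ _ (Ideal.mem_map_of_mem _ hP)
  have hX : ∀ i, ∃ x ∈ maximalIdeal (Localization.AtPrime P),
      φ x = Ideal.Quotient.mk _ (MvPowerSeries.X i) := by
    intro i
    refine ⟨algebraMap _ (Localization.AtPrime P) (Ideal.Quotient.mk (Ideal.span {f}) (MvPolynomial.X i - MvPolynomial.C (pt i))), ?_, ?_⟩
    · exact hmk.ge (Ideal.mem_map_of_mem _ ((hmemP _).mpr (by simp)))
    · rw [hφ, hT', hT, show taylor pt (MvPolynomial.X i - MvPolynomial.C (pt i)) = MvPolynomial.X i by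
        simp [taylor], MvPolynomial.coe_X]
  have hg0 : g ∈ maximalIdeal (MvPowerSeries (Fin n) k) :=
    mem_maximalIdeal_iff.2 (by rw [hg, hcc]; exact hf)
  haveI : Nontrivial (MvPowerSeries (Fin n) k ⧸ Ideal.span {g}) :=
    Ideal.Quotient.nontrivial_iff.mpr fun htop => by
      have := (Ideal.span_singleton_eq_top.mp htop)
      exact (mem_maximalIdeal _).mp hg0 this
  haveI : IsLocalRing (MvPowerSeries (Fin n) k ⧸ Ideal.span {g}) :=
    IsLocalRing.of_surjective' (Ideal.Quotient.mk _) Ideal.Quotient.mk_surjective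
  have h𝔫max : maximalIdeal (MvPowerSeries (Fin n) k ⧸ Ideal.span {g}) = 𝔫 := by
    rw [h𝔫]
    exact (IsLocalRing.map_maximalIdeal_of_surjective _ Ideal.Quotient.mk_surjective).symm
  haveI := isRegularLocalRing_mvPowerSeries (k := k) (d := n)
  haveI := isAdicComplete_maximalIdeal (k := k) (d := n)
  haveI hcompl : IsAdicComplete 𝔫 (MvPowerSeries (Fin n) k ⧸ Ideal.span {g}) := by
    rw [← h𝔫max]
    exact Groth.Agent.EGA4H10.isAdicComplete_maximalIdeal_of_finite (MvPowerSeries (Fin n) k) _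
  refine ⟨φ, fun p => by rw [hφ, hT', hT], hle1, hX, hsurj, hinj, ?_⟩
  exact equiv_of_hom 𝔫 φ hle1 hsurj hinj

end QS97
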