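import Groth.Prelude.Def_QuadSing
import Groth.Agent.CAlg6.PSEndo
import Mathlib

/-!
# Formal Morse lemma over an arbitrary ring

`QS97.exists_normalize`: if `F - (Q + a)` has order `> m ≥ 2` with `Q` non-degenerate, a
substitution `x ↦ x + h`, `h` of order `≥ m`, turns `F` into `Q + a`.
-/

set_option autoImplicit false

universe u

namespace QS97

open MvPowerSeries Groth.Agent.CAlg6

section Quad

variable {R : Type u} [CommRing R] {n : ℕ}

/-- The upper triangular matrix of a coefficient table. -/
def upper (a : Fin n → Fin n → R) : Matrix (Fin n) (Fin n) R :=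
  fun i j => if i ≤ j then a i j else 0

theorem quadEval_eq_upper (a : Fin n → Fin n → R) (v : Fin n → R) :
    VanCyc.quadEval a v = ∑ i, ∑ j, upper a i j * v i * v j := by
  refine Finset.sum_congr rfl fun i _ => Finset.sum_congr rfl fun j _ => ?_
  simp only [upper]; split <;> simp

theorem polarMatrix_eq_upper (a : Fin n → Fin n → R) (i j : Fin n) :
    VanCyc.polarMatrix a i j = upper a i j + upper a j i := by
  rcases lt_trichotomy i j with h | rfl | h
  · simp [VanCyc.polarMatrix, upper, h.ne, h, h.le, h.not_ge]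
  · simp [VanCyc.polarMatrix, upper, two_mul]
  · simp [VanCyc.polarMatrix, upper, h.ne', h.le, h.not_ge, h.not_gt]

theorem quadEval_add (a : Fin n → Fin n → R) (u v : Fin n → R) :
    VanCyc.quadEval a (u + v) = VanCyc.quadEval a u + VanCyc.quadEval a v +
      ∑ i, v i * ∑ j, VanCyc.polarMatrix a i j * u j := by
  simp only [quadEval_eq_upper, polarMatrix_eq_upper, Pi.add_apply, Finset.mul_sum, add_mul,
    mul_add, Finset.sum_add_distrib]
  rw [Finset.sum_comm (f := fun i j => v i * (upper a j i * u j))]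
  have e1 : ∑ i, ∑ j, upper a i j * v i * u j = ∑ i, ∑ j, v i * (upper a i j * u j) :=
    Finset.sum_congr rfl fun i _ => Finset.sum_congr rfl fun j _ => by ring
  have e2 : ∑ i, ∑ j, upper a i j * u i * v j = ∑ i, ∑ j, v j * (upper a i j * u i) :=
    Finset.sum_congr rfl fun i _ => Finset.sum_congr rfl fun j _ => by ring
  rw [e1, e2]
  ring

theorem map_quadEval {S : Type u} [CommRing S] {F : Type*} [FunLike F R S] [RingHomClass F R S]
    (φ : F) (a : Fin n → Fin n → R) (v : Fin n → R) :
    φ (VanCyc.quadEval a v) = VanCyc.quadEval (fun i j => φ (a i j)) (fun i => φ (v i)) := by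
  simp only [VanCyc.quadEval, map_sum]
  refine Finset.sum_congr rfl fun i _ => Finset.sum_congr rfl fun j _ => ?_
  split <;> simp

theorem quadPoly_eq_quadEval (q : Fin n → Fin n → R) :
    VanCyc.quadPoly q = VanCyc.quadEval (fun i j => MvPolynomial.C (q i j)) MvPolynomial.X := rfl

theorem coe_quadPoly (q : Fin n → Fin n → R) :
    ((VanCyc.quadPoly q : MvPolynomial (Fin n) R) : MvPowerSeries (Fin n) R) =
      VanCyc.quadEval (fun i j => C (q i j)) X := by
  rw [quadPoly_eq_quadEval]
  have h := map_quadEval (MvPolynomial.coeToMvPowerSeries.ringHom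
    (σ := Fin n) (R := R)) (fun i j => MvPolynomial.C (q i j)) MvPolynomial.X
  simpa using h

theorem polarMatrix_map {S : Type u} [CommRing S] (φ : R →+* S) (a : Fin n → Fin n → R) :
    VanCyc.polarMatrix (fun i j => φ (a i j)) = (VanCyc.polarMatrix a).map φ := by
  ext i j
  simp only [VanCyc.polarMatrix, Matrix.map_apply]
  split_ifs <;> simp [map_ofNat]

end Quad

section Shift

variable {R : Type u} [CommRing R] {n : ℕ}

/-- Underlying function of `shift`. -/
noncomputable def shiftFun (i : Fin n) (f : MvPowerSeries (Fin n) R) : MvPowerSeries (Fin n) R :=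
  fun d => if ∀ j, j < i → d j = 0 then coeff (d + Finsupp.single i 1) f else 0

theorem coeff_shiftFun (i : Fin n) (d : Fin n →₀ ℕ) (f : MvPowerSeries (Fin n) R) :
    coeff d (shiftFun i f) =
      if ∀ j, j < i → d j = 0 then coeff (d + Finsupp.single i 1) f else 0 := rfl

/-- The coefficient of `X i` in the decomposition of a series without constant term. -/
noncomputable def shift (i : Fin n) : MvPowerSeries (Fin n) R →+ MvPowerSeries (Fin n) R where
  toFun := shiftFun i
  map_zero' := by ext d; simp [coeff_shiftFun]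
  map_add' f g := by ext d; simp only [map_add, coeff_shiftFun]; split <;> simp

theorem coeff_shift (i : Fin n) (d : Fin n →₀ ℕ) (f : MvPowerSeries (Fin n) R) :
    coeff d (shift i f) =
      if ∀ j, j < i → d j = 0 then coeff (d + Finsupp.single i 1) f else 0 :=
  coeff_shiftFun i d f

theorem ordGE_shift {N : ℕ} {f : MvPowerSeries (Fin n) R} (h : OrdGE (N + 1) f) (i : Fin n) :
    OrdGE N (shift i f) := by
  intro d hd
  rw [coeff_shift]
  split
  · refine h _ ?_
    rw [map_add, Finsupp.degree_single]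
    omega
  · rfl

theorem sum_X_mul_shift {f : MvPowerSeries (Fin n) R} (h : constantCoeff f = 0) :
    ∑ i, X i * shift i f = f := by
  classical
  ext d
  rw [map_sum]
  let e : Fin n → (Fin n →₀ ℕ) := fun i => Finsupp.single i 1
  have hterm : ∀ i, coeff d (X i * shift i f) =
      if e i ≤ d then coeff (d - e i) (shift i f) else 0 := fun i => by
    rw [X_def, coeff_monomial_mul]
    simp [e]
  simp only [hterm]
  by_cases hd : d = 0
  · subst hd
    rw [Finset.sum_eq_zero fun i _ => ?_]
    · exact h.symm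
    · rw [if_neg]; intro hle; have := hle i; simp [e] at this
  · obtain ⟨i₀, hi₀, hmin⟩ : ∃ i₀, d i₀ ≠ 0 ∧ ∀ j, j < i₀ → d j = 0 := by
      have hne : d.support.Nonempty := Finsupp.support_nonempty_iff.2 hd
      refine ⟨d.support.min' hne, Finsupp.mem_support_iff.1 (d.support.min'_mem hne), fun j hj => ?_⟩
      by_contra hc
      exact absurd (d.support.min'_le j (Finsupp.mem_support_iff.2 hc)) (not_le.2 hj)
    have hle : e i₀ ≤ d := Finsupp.single_le_iff.2 (Nat.one_le_iff_ne_zero.2 hi₀)
    rw [Finset.sum_eq_single i₀]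
    · rw [if_pos hle, coeff_shift, if_pos, tsub_add_cancel_of_le hle]
      intro j hj
      simp [hmin j hj]
    · intro i _ hne
      by_cases hi : e i ≤ d
      · rw [if_pos hi, coeff_shift, if_neg]
        intro hall
        have h1 : 1 ≤ d i := Finsupp.single_le_iff.1 hi
        rcases lt_or_gt_of_ne hne with hlt | hgt
        · have := hmin i hlt; omega
        · have := hall i₀ hgt
          simp [e, Ne.symm hne] at this
          exact hi₀ this
      · rw [if_neg hi]
    · exact fun hn => absurd (Finset.mem_univ _) hn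

end Shift

section Morse

variable {A : Type u} [CommRing A] {n : ℕ}

theorem OrdGE.mul_left {N : ℕ} {g : MvPowerSeries (Fin n) A} (hg : OrdGE N g)
    (f : MvPowerSeries (Fin n) A) : OrdGE N (f * g) := by
  simpa using (ordGE_zero f).mul hg

theorem OrdGE.neg {N : ℕ} {f : MvPowerSeries (Fin n) A} (hf : OrdGE N f) : OrdGE N (-f) :=
  fun d hd => by rw [map_neg, hf d hd, neg_zero]

theorem OrdGE.sub {N : ℕ} {f g : MvPowerSeries (Fin n) A} (hf : OrdGE N f) (hg : OrdGE N g) :
    OrdGE N (f - g) := by rw [sub_eq_add_neg]; exact hf.add (OrdGE.neg hg)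

theorem ordGE_quadEval (q : Fin n → Fin n → MvPowerSeries (Fin n) A) {N : ℕ}
    {g : Fin n → MvPowerSeries (Fin n) A} (hg : ∀ i, OrdGE N (g i)) :
    OrdGE (N + N) (VanCyc.quadEval q g) := by
  refine OrdGE.sum _ fun i _ => OrdGE.sum _ fun j _ => ?_
  split
  · rw [mul_assoc]; exact OrdGE.mul_left ((hg i).mul (hg j)) _
  · exact OrdGE.zero _

variable (q : Fin n → Fin n → A)

local notation "qC" => fun i j => (C (q i j) : MvPowerSeries (Fin n) A)

/-- The equation `Q(x + g) = Q + D` has a solution `g` of order `≥ m`. -/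
theorem exists_fixed (hq : VanCyc.QuadNondeg q) {m : ℕ} (hm : 2 ≤ m)
    (D : MvPowerSeries (Fin n) A) (hD : OrdGE (m + 1) D) :
    ∃ g : Fin n → MvPowerSeries (Fin n) A, (∀ i, OrdGE m (g i)) ∧
      VanCyc.quadEval qC (fun i => X i + g i) = VanCyc.quadEval qC X + D := by
  classical
  set M := VanCyc.polarMatrix q with hM
  let T : (Fin n → MvPowerSeries (Fin n) A) → Fin n → MvPowerSeries (Fin n) A :=
    fun g i => ∑ j, C (M⁻¹ j i) * shift j (D - VanCyc.quadEval qC g)
  have hQ1 : ∀ g : Fin n → MvPowerSeries (Fin n) A, (∀ i, OrdGE m (g i)) →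
      OrdGE (m + 1) (VanCyc.quadEval qC g) := fun g hg => (ordGE_quadEval _ hg).mono (by omega)
  have hT : ∀ g : Fin n → MvPowerSeries (Fin n) A, (∀ i, OrdGE m (g i)) →
      ∀ i, OrdGE m (T g i) := fun g hg i =>
    OrdGE.sum _ fun j _ => OrdGE.mul_left (ordGE_shift (OrdGE.sub hD (hQ1 g hg)) j) _
  have hcontr : ∀ (k : ℕ) (g g' : Fin n → MvPowerSeries (Fin n) A), (∀ i, OrdGE m (g i)) →
      (∀ i, OrdGE m (g' i)) → (∀ i, OrdGE k (g i - g' i)) →
      ∀ i, OrdGE (k + 1) (T g i - T g' i) := by
    intro k g g' hg hg' hd i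
    simp only [T, ← Finset.sum_sub_distrib, ← mul_sub, ← map_sub]
    refine OrdGE.sum _ fun j _ => OrdGE.mul_left (ordGE_shift ?_ j) _
    have hd' : ∀ i, OrdGE (max k m) (g i - g' i) := fun i => by
      rcases le_total k m with h | h
      · rw [max_eq_right h]; exact OrdGE.sub (hg i) (hg' i)
      · rw [max_eq_left h]; exact hd i
    have e : VanCyc.quadEval qC g = VanCyc.quadEval qC g' + VanCyc.quadEval qC (g - g') +
        ∑ i, (g - g') i * ∑ j, VanCyc.polarMatrix qC i j * g' j := by
      rw [← quadEval_add, add_sub_cancel]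
    rw [show (D - VanCyc.quadEval qC g) - (D - VanCyc.quadEval qC g') =
      -(VanCyc.quadEval qC (g - g') + ∑ i, (g - g') i * ∑ j, VanCyc.polarMatrix qC i j * g' j) by
        rw [e]; ring]
    refine OrdGE.neg (OrdGE.add ((ordGE_quadEval _ (g := g - g') hd').mono ?_)
      (OrdGE.sum _ fun a _ => (OrdGE.mul (hd' a)
        (OrdGE.sum _ fun b _ => OrdGE.mul_left (hg' b) _)).mono ?_))
    · have := le_max_left k m; have := le_max_right k m; omega
    · have := le_max_left k m; omega
  obtain ⟨x, x0, xs⟩ : ∃ x : ℕ → Fin n → MvPowerSeries (Fin n) A,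
      (∀ i, x 0 i = 0) ∧ ∀ N, x (N + 1) = T (x N) :=
    ⟨fun N => T^[N] 0, fun i => rfl, fun N => Function.iterate_succ_apply' T N 0⟩
  have hT' : ∀ g i, T g i = ∑ j, C (M⁻¹ j i) * shift j (D - VanCyc.quadEval qC g) :=
    fun g i => rfl
  clear_value T
  have hxm : ∀ N i, OrdGE m (x N i) := by
    intro N
    induction N with
    | zero => intro i; rw [x0]; exact OrdGE.zero _
    | succ N ih => intro i; rw [xs]; exact hT _ ih i
  have hstep : ∀ N i, OrdGE N (x (N + 1) i - x N i) := by
    intro N
    induction N with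
    | zero => exact fun i => ordGE_zero _
    | succ N ih =>
      intro i
      rw [xs (N + 1), xs N]
      exact hcontr N _ _ (fun j => by rw [← xs]; exact hxm (N + 1) j) (hxm N)
        (fun j => by rw [← xs]; exact ih j) i
  have hcauchy : ∀ i d N, Finsupp.degree d < N →
      coeff d (x N i) = coeff d (x (Finsupp.degree d + 1) i) := by
    intro i d N hN
    induction N, hN using Nat.le_induction with
    | base => rfl
    | succ N hN ih =>
      rw [← ih, ← sub_eq_zero, ← map_sub]
      exact hstep N i d hN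
  obtain ⟨g, hgd⟩ : ∃ g : Fin n → MvPowerSeries (Fin n) A,
      ∀ i d, coeff d (g i) = coeff d (x (Finsupp.degree d + 1) i) :=
    ⟨fun i d => coeff d (x (Finsupp.degree d + 1) i), fun i d => rfl⟩
  have hgx : ∀ N i, OrdGE N (g i - x N i) := fun N i d hd => by
    rw [map_sub, hcauchy i d N hd, hgd, sub_self]
  have hgm : ∀ i, OrdGE m (g i) := fun i => by
    rw [show g i = (g i - x m i) + x m i by ring]
    exact (hgx m i).add (hxm m i)
  have hfix : ∀ i, T g i = g i := fun i => sub_eq_zero.1 (eq_zero_of_forall_ordGE fun N => by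
    have h1 : OrdGE N (T g i - x (N + 1) i) :=
      by
      rw [xs]; exact (hcontr N g (x N) hgm (hxm N) (hgx N) i).mono (Nat.le_succ N)
    rw [show T g i - g i = (T g i - x (N + 1) i) - (g i - x (N + 1) i) by ring]
    exact OrdGE.sub h1 ((hgx (N + 1) i).mono (Nat.le_succ N)))
  refine ⟨g, hgm, ?_⟩
  have hlin : ∑ i, g i * ∑ j, VanCyc.polarMatrix qC i j * X j = D - VanCyc.quadEval qC g := by
    have hc : constantCoeff (D - VanCyc.quadEval qC g) = 0 :=
      ordGE_one_iff.1 ((OrdGE.sub hD (hQ1 g hgm)).mono (by omega))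
    have hMM : M⁻¹ * M = 1 := Matrix.nonsing_inv_mul _ hq
    conv_rhs => rw [← sum_X_mul_shift hc]
    conv_lhs => enter [2, i]; rw [← hfix i, hT']
    rw [show VanCyc.polarMatrix qC = M.map C from polarMatrix_map (C : A →+* _) q]
    simp only [Matrix.map_apply, Finset.sum_mul, Finset.mul_sum]
    rw [Finset.sum_comm_cycle]
    refine Finset.sum_congr rfl fun j _ => ?_
    rw [Finset.sum_comm]
    rw [show ∑ y, ∑ x, C (M⁻¹ j x) * shift j (D - VanCyc.quadEval qC g) * (C (M x y) * X y) =
      ∑ y, C ((M⁻¹ * M) j y) * (X y * shift j (D - VanCyc.quadEval qC g)) from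
        Finset.sum_congr rfl fun y _ => by
          rw [Matrix.mul_apply, map_sum, Finset.sum_mul]
          exact Finset.sum_congr rfl fun i _ => by rw [map_mul]; ring]
    rw [hMM]
    simp [Matrix.one_apply, apply_ite]
  have := quadEval_add qC X g
  rw [show (fun i => X i + g i) = X + g from rfl, this, hlin]
  ring

theorem exists_normalize (hq : VanCyc.QuadNondeg q) (a : A) {m : ℕ} (hm : 2 ≤ m)
    (F : MvPowerSeries (Fin n) A) (hF : OrdGE (m + 1) (F - (VanCyc.quadEval qC X + C a))) :
    ∃ (h : Fin n → MvPowerSeries (Fin n) A) (ψ : MvPowerSeries (Fin n) A ≃ₐ[A] MvPowerSeries (Fin n) A),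
      (∀ i, OrdGE m (h i)) ∧ HasSubst (fun i => X i + h i) ∧
      subst (fun i => X i + h i) F = VanCyc.quadEval qC X + C a ∧
      ψ F = VanCyc.quadEval qC X + C a := by
  classical
  obtain ⟨g, hgm, hg⟩ := exists_fixed q hq hm _ hF
  have hsg : HasSubst (fun i => X i + g i) := hasSubst_of_constantCoeff_zero fun i => by
    rw [map_add, constantCoeff_X, ordGE_one_iff.1 ((hgm i).mono (by omega)), add_zero]
  let φ : MvPowerSeries (Fin n) A →ₐ[A] MvPowerSeries (Fin n) A := substAlgHom hsg
  have hφX : ∀ i, φ (X i) = X i + g i := fun i => substAlgHom_X hsg i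
  have hbij : Function.Bijective φ := bijective_of_sub_X_ordGE_two φ fun i => by
    rw [hφX, add_sub_cancel_left]; exact (hgm i).mono hm
  let e := AlgEquiv.ofBijective φ hbij
  have he : ∀ f, e f = φ f := fun f => rfl
  have hφC : ∀ c, φ (C c) = C c := fun c => φ.commutes c
  have hφ0 : ∀ i, constantCoeff (φ (X i)) = 0 := fun i => by
    rw [hφX, map_add, constantCoeff_X, ordGE_one_iff.1 ((hgm i).mono (by omega)), add_zero]
  have hc0 : ∀ i, constantCoeff (e.symm (X i)) = 0 := by
    intro i
    set f := e.symm (X i) with hf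
    have h1 : OrdGE 1 (φ (f - C (constantCoeff f))) :=
      ordGE_algHom φ hφ0 1 _ (ordGE_one_iff.2 (by simp))
    rw [ordGE_one_iff, map_sub, hφC, ← he, hf, AlgEquiv.apply_symm_apply, map_sub,
      constantCoeff_C, constantCoeff_X, zero_sub, neg_eq_zero] at h1
    exact h1
  have hm' : ∀ i, OrdGE m (e.symm (X i) - X i) := fun i => by
    rw [show e.symm (X i) - X i = e.symm.toAlgHom (X i - φ (X i)) by
      rw [map_sub]
      show _ = e.symm (X i) - e.symm (e (X i))
      rw [AlgEquiv.symm_apply_apply]]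
    refine ordGE_algHom _ hc0 m _ ?_
    rw [hφX, sub_add_cancel_left]
    exact OrdGE.neg (hgm i)
  have hFeq : φ (VanCyc.quadEval qC X + C a) = F := by
    rw [map_add, hφC, map_quadEval]
    simp only [hφC, hφX]
    rw [hg]; ring
  refine ⟨fun i => e.symm (X i) - X i, e.symm, hm', ?_, ?_, ?_⟩
  · exact hasSubst_of_constantCoeff_zero fun i => by simp [hc0]
  · have hs : HasSubst (fun i => X i + (e.symm (X i) - X i)) :=
      hasSubst_of_constantCoeff_zero fun i => by simp [hc0]
    refine hbij.1 ?_
    rw [hFeq]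
    show substAlgHom hsg (subst _ F) = F
    rw [substAlgHom_apply, subst_comp_subst_apply hs hsg]
    have : (fun s => subst (fun i => X i + g i) (X s + (e.symm (X s) - X s))) = X := by
      funext s
      rw [add_sub_cancel]
      show _ = X s
      rw [← substAlgHom_apply hsg]
      exact e.apply_symm_apply (X s)
    rw [this, subst_self, id]
  · rw [AlgEquiv.symm_apply_eq, he, hFeq]

end Morse

end QS97
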