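import Groth.Agent.QS97.Degree2
import Groth.Agent.CAlg6.CompleteSurj
import Mathlib

/-!
# Hessians at the origin of formal power series
-/

set_option autoImplicit false

universe u

namespace QS97

open MvPowerSeries Groth.Agent.CAlg6

variable {R : Type u} [CommRing R] {n : ℕ}

/-- The first partial derivative at the origin. -/
noncomputable def d1 (F : MvPowerSeries (Fin n) R) (j : Fin n) : R :=
  constantCoeff (pderiv R j F)

/-- The second partial derivative at the origin. -/
noncomputable def d2 (F : MvPowerSeries (Fin n) R) (j i : Fin n) : R :=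
  constantCoeff (pderiv R j (pderiv R i F))

theorem d1_eq_coeff (F : MvPowerSeries (Fin n) R) (j : Fin n) :
    d1 F j = coeff (Finsupp.single j 1) F := by
  rw [d1, ← coeff_zero_eq_constantCoeff_apply, coeff_pderiv]
  simp

theorem d2_eq_polar (F : MvPowerSeries (Fin n) R) (j i : Fin n) :
    d2 F j i = VanCyc.polarMatrix (VanCyc.quadPart F) j i := by
  rw [← coeff_single_pderiv]
  exact d1_eq_coeff _ j

theorem ordGE_pderiv {N : ℕ} {F : MvPowerSeries (Fin n) R} (h : OrdGE (N + 1) F) (i : Fin n) :
    OrdGE N (pderiv R i F) := by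
  intro d hd
  rw [coeff_pderiv, h _ (by rw [map_add, Finsupp.degree_single]; omega), zero_mul]

theorem d1_of_ordGE_two {F : MvPowerSeries (Fin n) R} (h : OrdGE 2 F) (j : Fin n) : d1 F j = 0 :=
  ordGE_one_iff.1 (ordGE_pderiv h j)

theorem d2_of_ordGE_three {F : MvPowerSeries (Fin n) R} (h : OrdGE 3 F) (j i : Fin n) :
    d2 F j i = 0 :=
  ordGE_one_iff.1 (ordGE_pderiv (ordGE_pderiv h i) j)

theorem d2_add (F G : MvPowerSeries (Fin n) R) (j i : Fin n) :
    d2 (F + G) j i = d2 F j i + d2 G j i := by simp [d2]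

theorem d2_sum {ι : Type*} (s : Finset ι) (F : ι → MvPowerSeries (Fin n) R) (j i : Fin n) :
    d2 (∑ a ∈ s, F a) j i = ∑ a ∈ s, d2 (F a) j i := by simp [d2]

theorem d2_C_mul (c : R) (F : MvPowerSeries (Fin n) R) (j i : Fin n) :
    d2 (C c * F) j i = c * d2 F j i := by
  simp [d2, Derivation.leibniz]

theorem d2_mul (a b : MvPowerSeries (Fin n) R) (j i : Fin n) :
    d2 (a * b) j i = constantCoeff a * d2 b j i + d1 a j * d1 b i +
      (constantCoeff b * d2 a j i + d1 b j * d1 a i) := by
  simp [d1, d2, Derivation.leibniz]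
  ring

theorem d1_subst (a : Fin n → MvPowerSeries (Fin n) R) (ha : ∀ i, constantCoeff (a i) = 0)
    (F : MvPowerSeries (Fin n) R) (j : Fin n) :
    d1 (subst a F) j = ∑ l, d1 F l * d1 (a l) j := by
  have hs := hasSubst_of_constantCoeff_zero ha
  obtain ⟨G, -, hG⟩ := exists_decomp (N := 0) ((ordGE_one_iff (f := F - C (constantCoeff F))).2 (by simp))
  rw [sub_eq_iff_eq_add] at hG
  have hFl : ∀ l, d1 F l = constantCoeff (G l) := fun l => by
    rw [hG]
    simp [d1, Derivation.leibniz, pderiv_X, Pi.single_apply, apply_ite, eq_comm]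
  conv_lhs => rw [hG, ← substAlgHom_apply hs]
  simp only [map_add, map_sum, map_mul, substAlgHom_X, d1, Derivation.leibniz, smul_eq_mul, ha,
    zero_mul, zero_add]
  rw [show substAlgHom hs (C (constantCoeff F)) = C (constantCoeff F) from
    (substAlgHom hs).commutes _]
  simp only [pderiv_C, map_zero, add_zero]
  refine Finset.sum_congr rfl fun l _ => ?_
  have := hFl l
  rw [d1] at this
  rw [this]
  congr 1
  have h1 : OrdGE 1 (substAlgHom hs (G l - C (constantCoeff (G l)))) :=
    ordGE_algHom (substAlgHom hs) (fun i => by rw [substAlgHom_X]; exact ha i) 1 _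
      (ordGE_one_iff.2 (by simp))
  rw [ordGE_one_iff, map_sub, map_sub, sub_eq_zero] at h1
  rw [h1, show substAlgHom hs (C (constantCoeff (G l))) = C (constantCoeff (G l)) from
    (substAlgHom hs).commutes _, constantCoeff_C]

theorem exists_quad_decomp (F : MvPowerSeries (Fin n) R) (h : VanCyc.NoLowTerms F) :
    OrdGE 2 F ∧ OrdGE 3 (F - VanCyc.quadEval (fun i j => C (VanCyc.quadPart F i j)) X) := by
  have h01 : ∀ d : Fin n →₀ ℕ, d.degree < 2 → coeff d F = 0 := by
    intro d hd
    rcases (by omega : d.degree = 0 ∨ d.degree = 1) with h0 | h1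
    · obtain rfl := (Finsupp.degree_eq_zero_iff d).mp h0
      rw [coeff_zero_eq_constantCoeff_apply]; exact h.1
    · obtain ⟨j, rfl⟩ := exists_single h1
      exact h.2 j
  refine ⟨h01, fun d hd => ?_⟩
  rw [map_sub]
  rcases (by omega : d.degree < 2 ∨ d.degree = 2) with h1 | h2
  · rw [h01 d h1, coeff_quadEval_of_ne_two _ (by omega), sub_zero]
  · obtain ⟨i, j, hij, rfl⟩ := exists_pairExp h2
    rw [coeff_quadEval_pairExp _ hij, quadPart_eq _ hij, sub_self]

theorem d2_subst (a : Fin n → MvPowerSeries (Fin n) R) (ha : ∀ i, constantCoeff (a i) = 0)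
    (H : MvPowerSeries (Fin n) R) (hH : VanCyc.NoLowTerms H) (j i : Fin n) :
    d2 (subst a H) j i = ∑ l, ∑ m, d1 (a l) j * d2 H l m * d1 (a m) i := by
  have hs := hasSubst_of_constantCoeff_zero ha
  obtain ⟨-, h3⟩ := exists_quad_decomp H hH
  set q := VanCyc.quadPart H with hq
  set r := H - VanCyc.quadEval (fun i j => C (q i j)) X with hr
  have hH' : H = VanCyc.quadEval (fun i j => C (q i j)) X + r := by rw [hr]; ring
  have hr0 : d2 (subst a r) j i = 0 := d2_of_ordGE_three (by
    rw [← substAlgHom_apply hs]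
    exact ordGE_algHom _ (fun i => by rw [substAlgHom_X]; exact ha i) 3 _ h3) j i
  have hC : ∀ c, substAlgHom hs (C c) = C c := fun c => (substAlgHom hs).commutes c
  conv_lhs => rw [hH', subst_add hs, d2_add, hr0, add_zero, ← substAlgHom_apply hs, map_quadEval]
  simp only [hC, substAlgHom_X, quadEval_eq_upper, d2_sum]
  simp only [d2_eq_polar H, ← hq, polarMatrix_eq_upper, mul_add, add_mul, Finset.sum_add_distrib]
  rw [Finset.sum_comm (f := fun l m => d1 (a l) j * upper q m l * d1 (a m) i),
    ← Finset.sum_add_distrib]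
  refine Finset.sum_congr rfl fun l _ => ?_
  rw [← Finset.sum_add_distrib]
  refine Finset.sum_congr rfl fun m _ => ?_
  have hup : upper (fun i j => (C (q i j) : MvPowerSeries (Fin n) R)) l m = C (upper q l m) := by
    simp only [upper]; split <;> simp
  rw [hup, mul_assoc, d2_C_mul, d2_mul, ha l, ha m]
  ring

/-- Non-degeneracy descends along a map of hypersurface germs. -/
theorem nondeg_of_subst (hn : 0 < n) {g h u : MvPowerSeries (Fin n) R}
    (a : Fin n → MvPowerSeries (Fin n) R) (ha : ∀ i, constantCoeff (a i) = 0)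
    (hg : VanCyc.NoLowTerms g) (hh : VanCyc.NondegQuadSeries h)
    (hsub : subst a h = g * u)
    (hsurj : ∀ j, ∃ F r : MvPowerSeries (Fin n) R,
      (X j : MvPowerSeries (Fin n) R) = subst a F + g * r) : VanCyc.NondegQuadSeries g := by
  classical
  refine ⟨hg, ?_⟩
  let L : Matrix (Fin n) (Fin n) R := Matrix.of fun l j => d1 (a l) j
  obtain ⟨hg2, -⟩ := exists_quad_decomp g hg
  choose F r hF using hsurj
  have hL : Matrix.of (fun j l => d1 (F j) l) * L = 1 := by
    ext j k
    have h1 : d1 (X j : MvPowerSeries (Fin n) R) k = d1 (subst a (F j)) k := by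
      conv_lhs => rw [hF j]
      rw [d1, map_add, map_add]
      show _ + d1 (g * r j) k = _
      rw [d1_of_ordGE_two (by simpa using hg2.mul (ordGE_zero (r j))) k, add_zero]
      rfl
    rw [d1_subst a ha] at h1
    rw [Matrix.mul_apply]
    simp only [L, Matrix.of_apply]
    rw [← h1, d1, pderiv_X]
    by_cases hjk : j = k
    · subst hjk; simp
    · simp [Matrix.one_apply, Pi.single_apply, hjk, Ne.symm hjk]
  have hdetL : IsUnit L.det := Matrix.isUnit_det_of_left_inverse hL
  have key : L.transpose * VanCyc.polarMatrix (VanCyc.quadPart h) * L =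
      constantCoeff u • VanCyc.polarMatrix (VanCyc.quadPart g) := by
    ext j i
    rw [Matrix.smul_apply, ← d2_eq_polar, smul_eq_mul]
    have hmul : d2 (g * u) j i = constantCoeff u * d2 g j i := by
      rw [d2_mul, hg.1, d1_of_ordGE_two hg2, d1_of_ordGE_two hg2]; ring
    rw [← hmul, ← hsub, d2_subst a ha h hh.1, Matrix.mul_apply]
    simp only [Matrix.mul_apply, Matrix.transpose_apply, Finset.sum_mul, ← d2_eq_polar]
    rw [Finset.sum_comm]
    rfl
  have hdet := congrArg Matrix.det key
  rw [Matrix.det_mul, Matrix.det_mul, Matrix.det_transpose, Matrix.det_smul] at hdet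
  have : IsUnit (constantCoeff u ^ Fintype.card (Fin n) *
      (VanCyc.polarMatrix (VanCyc.quadPart g)).det) := hdet ▸ (hdetL.mul hh.2).mul hdetL
  exact isUnit_of_mul_isUnit_right this

end QS97
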