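import Groth.Agent.QS97.HyperLocal
import Mathlib

/-!
# Jacobian criterion for non-degenerate quadratic hypersurface points
-/

set_option autoImplicit false

universe u

namespace QS97

open MvPowerSeries Groth.Agent.CAlg6 IsLocalRing

variable {k : Type u} [Field k] {n : ℕ}

theorem noLow_taylor {pt : Fin n → k} {f : MvPolynomial (Fin n) k}
    (hf : MvPolynomial.aeval pt f = 0) (hd : ∀ j, MvPolynomial.aeval pt (MvPolynomial.pderiv j f) = 0) :
    VanCyc.NoLowTerms ((taylor pt f : MvPolynomial (Fin n) k) : MvPowerSeries (Fin n) k) := by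
  have hcc : ∀ p : MvPolynomial (Fin n) k,
      constantCoeff ((taylor pt p : MvPolynomial (Fin n) k) : MvPowerSeries (Fin n) k) =
        MvPolynomial.aeval pt p := fun p => by
    rw [← coeff_zero_eq_constantCoeff_apply, MvPolynomial.coeff_coe, ← constantCoeff_taylor]
    rfl
  refine ⟨by rw [hcc]; exact hf, fun i => ?_⟩
  rw [← d1_eq_coeff, d1, pderiv_coe, pderiv_taylor, hcc]
  exact hd i

/-- Surjections between hypersurface germs with non-degenerate source have non-degenerate target. -/
theorem nondeg_of_equiv (hn : 0 < n) {g h : MvPowerSeries (Fin n) k} (hg : VanCyc.NoLowTerms g)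
    (hh : VanCyc.NondegQuadSeries h)
    (θ : (MvPowerSeries (Fin n) k ⧸ Ideal.span {h}) ≃ₐ[k]
      (MvPowerSeries (Fin n) k ⧸ Ideal.span {g})) :
    VanCyc.NondegQuadSeries g := by
  classical
  let χ : MvPowerSeries (Fin n) k →ₐ[k] MvPowerSeries (Fin n) k ⧸ Ideal.span {g} :=
    θ.toAlgHom.comp (Ideal.Quotient.mkₐ k _)
  choose a ha using fun i => Ideal.Quotient.mk_surjective (I := Ideal.span {g}) (χ (X i))
  have ha0 : ∀ i, constantCoeff (a i) = 0 := by
    intro i
    by_contra hne
    have hu : IsUnit (χ (X i)) := by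
      rw [← ha i]
      exact ((isUnit_iff_constantCoeff).mpr (isUnit_iff_ne_zero.mpr hne)).map _
    have hu' : IsUnit (Ideal.Quotient.mk (Ideal.span {h}) (X i)) := by
      have := hu.map θ.symm
      simpa [χ] using this
    obtain ⟨b, hb⟩ := isUnit_iff_exists_inv.mp hu'
    obtain ⟨B, rfl⟩ := Ideal.Quotient.mk_surjective b
    rw [← map_mul, ← map_one (Ideal.Quotient.mk (Ideal.span {h})), Ideal.Quotient.eq,
      Ideal.mem_span_singleton] at hb
    obtain ⟨r, hr⟩ := hb
    have := congrArg constantCoeff hr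
    simp [hh.1.1] at this
  have hs := hasSubst_of_constantCoeff_zero ha0
  let χ' : MvPowerSeries (Fin n) k →ₐ[k] MvPowerSeries (Fin n) k ⧸ Ideal.span {g} :=
    (Ideal.Quotient.mkₐ k _).comp (substAlgHom hs)
  set 𝔫 : Ideal (MvPowerSeries (Fin n) k ⧸ Ideal.span {g}) :=
    (maximalIdeal (MvPowerSeries (Fin n) k)).map (Ideal.Quotient.mk _) with h𝔫
  have hpow : ∀ (ψ : MvPowerSeries (Fin n) k →ₐ[k] MvPowerSeries (Fin n) k ⧸ Ideal.span {g}),
      (∀ i, ψ (X i) ∈ 𝔫) → ∀ N F, OrdGE N F → ψ F ∈ 𝔫 ^ N := by
    intro ψ hψ N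
    induction N with
    | zero => intro F _; simp
    | succ N ih =>
      intro F hF
      obtain ⟨G, hG, rfl⟩ := exists_decomp hF
      rw [map_sum]
      refine Ideal.sum_mem _ fun i _ => ?_
      rw [map_mul, show 𝔫 ^ (N + 1) = 𝔫 * 𝔫 ^ N from pow_succ' 𝔫 N]
      exact Ideal.mul_mem_mul (hψ i) (ih _ (hG i))
  have hmem : ∀ i, χ (X i) ∈ 𝔫 := fun i => by
    rw [← ha i]; exact Ideal.mem_map_of_mem _ (mem_maximalIdeal_iff.2 (ha0 i))
  have hX : ∀ i, χ' (X i) = χ (X i) := fun i => by
    rw [← ha i]; simp [χ', subst_X hs]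
  have hg0 : g ∈ maximalIdeal (MvPowerSeries (Fin n) k) := mem_maximalIdeal_iff.2 hg.1
  haveI : Nontrivial (MvPowerSeries (Fin n) k ⧸ Ideal.span {g}) :=
    Ideal.Quotient.nontrivial_iff.mpr fun htop =>
      (IsLocalRing.mem_maximalIdeal _).mp hg0 (Ideal.span_singleton_eq_top.mp htop)
  haveI := isRegularLocalRing_mvPowerSeries (k := k) (d := n)
  haveI : IsLocalRing (MvPowerSeries (Fin n) k ⧸ Ideal.span {g}) :=
    IsLocalRing.of_surjective' (Ideal.Quotient.mk _) Ideal.Quotient.mk_surjective
  have h𝔫max : maximalIdeal (MvPowerSeries (Fin n) k ⧸ Ideal.span {g}) = 𝔫 :=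
    (IsLocalRing.map_maximalIdeal_of_surjective _ Ideal.Quotient.mk_surjective).symm
  haveI : IsHausdorff 𝔫 (MvPowerSeries (Fin n) k ⧸ Ideal.span {g}) := by
    rw [← h𝔫max]; exact IsHausdorff.of_isLocalRing _ _ (maximalIdeal.isMaximal _).ne_top
  have heq : ∀ F, χ F = χ' F := by
    intro F
    rw [← sub_eq_zero]
    refine IsHausdorff.haus (I := 𝔫) inferInstance _ fun N => ?_
    rw [SModEq.sub_mem, sub_zero, smul_eq_mul, Ideal.mul_top]
    have hp : ∀ p : MvPolynomial (Fin n) k,
        χ (p : MvPowerSeries (Fin n) k) = χ' (p : MvPowerSeries (Fin n) k) := fun p => by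
      have h := MvPolynomial.algHom_ext (f := χ.comp (MvPolynomial.coeToMvPowerSeries.algHom k))
        (g := χ'.comp (MvPolynomial.coeToMvPowerSeries.algHom k)) fun i => by simpa using (hX i).symm
      simpa using DFunLike.congr_fun h p
    have e : χ F - χ' F =
        χ (F - ((truncTotal N F : MvPolynomial (Fin n) k) : MvPowerSeries (Fin n) k)) -
          χ' (F - ((truncTotal N F : MvPolynomial (Fin n) k) : MvPowerSeries (Fin n) k)) := by
      rw [map_sub, map_sub, hp]; ring
    rw [e]
    exact Ideal.sub_mem _ (hpow χ hmem N _ (ordGE_sub_truncTotal N F))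
      (hpow χ' (fun i => by rw [hX]; exact hmem i) N _ (ordGE_sub_truncTotal N F))
  have hh0 : χ' h = 0 := by
    rw [← heq]
    simp [χ]
  rw [show χ' h = Ideal.Quotient.mk _ (substAlgHom hs h) from rfl,
    Ideal.Quotient.eq_zero_iff_mem, Ideal.mem_span_singleton, substAlgHom_apply] at hh0
  obtain ⟨u, hu⟩ := hh0
  refine nondeg_of_subst hn a ha0 hg hh hu fun j => ?_
  obtain ⟨y, hy⟩ := θ.surjective (Ideal.Quotient.mk _ (X j))
  obtain ⟨F, rfl⟩ := Ideal.Quotient.mk_surjective y
  have h2 : Ideal.Quotient.mk (Ideal.span {g}) (subst a F) = Ideal.Quotient.mk _ (X j) := by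
    rw [← hy, ← substAlgHom_apply hs]
    exact (heq F).symm
  rw [eq_comm, Ideal.Quotient.eq, Ideal.mem_span_singleton] at h2
  obtain ⟨r, hr⟩ := h2
  exact ⟨F, r, by rw [← hr]; ring⟩

theorem le_of_le_sup_sq {O : Type u} [CommRing O] [IsLocalRing O] [IsNoetherianRing O] (J : Ideal O)
    (h : maximalIdeal O ≤ J ⊔ maximalIdeal O ^ 2) : maximalIdeal O ≤ J := by
  refine Submodule.le_of_le_smul_of_le_jacobson_bot (I := maximalIdeal O) (IsNoetherian.noetherian _)
    (IsLocalRing.maximalIdeal_le_jacobson _) ?_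
  rwa [smul_eq_mul, ← pow_two]

variable [IsAlgClosed k]

theorem jacobian_iff_nondeg (hn : 0 < n) (f : MvPolynomial (Fin n) k)
    (P : Ideal (MvPolynomial (Fin n) k ⧸ Ideal.span {f})) [P.IsMaximal]
    (hP : ∀ j : Fin n, Ideal.Quotient.mk (Ideal.span {f}) (MvPolynomial.pderiv j f) ∈ P) :
    Ideal.map (algebraMap (MvPolynomial (Fin n) k ⧸ Ideal.span {f}) (Localization.AtPrime P))
        (Ideal.span (Set.range fun j : Fin n =>
          Ideal.Quotient.mk (Ideal.span {f}) (MvPolynomial.pderiv j f))) =
      maximalIdeal (Localization.AtPrime P) ↔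
    ∃ g : MvPowerSeries (Fin n) k, VanCyc.NondegQuadSeries g ∧
      Nonempty (Cpl (Localization.AtPrime P) ≃ₐ[k] (MvPowerSeries (Fin n) k ⧸ Ideal.span {g})) := by
  classical
  obtain ⟨pt, hpt, hf⟩ := exists_point f P
  have hd : ∀ j, MvPolynomial.aeval pt (MvPolynomial.pderiv j f) = 0 := fun j => by
    rw [← MvPolynomial.mem_vanishingIdeal_singleton_iff, ← hpt]; exact hP j
  set g : MvPowerSeries (Fin n) k :=
    ((taylor pt f : MvPolynomial (Fin n) k) : MvPowerSeries (Fin n) k) with hg
  obtain ⟨φ, hφ, hle1, hX, hsurj, hinj, hiso⟩ := exists_hyper_completion f P pt hpt hf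
  rw [← hg] at hiso
  have hlow : VanCyc.NoLowTerms g := noLow_taylor hf hd
  let M : Matrix (Fin n) (Fin n) k := VanCyc.polarMatrix (VanCyc.quadPart g)
  rw [Ideal.map_span, ← Set.range_comp]
  set J : Ideal (Localization.AtPrime P) := Ideal.span (Set.range
    ((algebraMap (MvPolynomial (Fin n) k ⧸ Ideal.span {f}) (Localization.AtPrime P)) ∘ fun j : Fin n =>
      Ideal.Quotient.mk (Ideal.span {f}) (MvPolynomial.pderiv j f))) with hJ
  have hgen : ∀ j, φ (algebraMap _ (Localization.AtPrime P)
      (Ideal.Quotient.mk (Ideal.span {f}) (MvPolynomial.pderiv j f))) =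
      Ideal.Quotient.mk (Ideal.span {g}) (pderiv k j g) := fun j => by
    have e : pderiv k j g = ((taylor pt (MvPolynomial.pderiv j f) : MvPolynomial (Fin n) k) :
        MvPowerSeries (Fin n) k) := by rw [hg, pderiv_coe, pderiv_taylor]
    rw [hφ, e]
  have hd1g : ∀ j, constantCoeff (pderiv k j g) = 0 := fun j => by
    rw [show constantCoeff (pderiv k j g) = d1 g j from rfl, d1_eq_coeff]; exact hlow.2 j
  obtain ⟨hg2, -⟩ := exists_quad_decomp g hlow
  have hiff : J = maximalIdeal (Localization.AtPrime P) ↔ IsUnit M.det := by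
    constructor
    · intro hJm
      have hmem : ∀ x ∈ J, φ x ∈ Ideal.span (Set.range fun j =>
          Ideal.Quotient.mk (Ideal.span {g}) (pderiv k j g)) := by
        intro x hx
        rw [hJ] at hx
        induction hx using Submodule.span_induction with
        | mem y hy =>
          obtain ⟨j, rfl⟩ := hy
          exact Ideal.subset_span ⟨j, (hgen j).symm⟩
        | zero => rw [map_zero]; exact Ideal.zero_mem _
        | add y z _ _ hy hz => rw [map_add]; exact Ideal.add_mem _ hy hz
        | smul r y _ hy => rw [smul_eq_mul, map_mul]; exact Ideal.mul_mem_left _ _ hy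
      have hrow : ∀ i, ∃ h : Fin n → MvPowerSeries (Fin n) k, ∃ r : MvPowerSeries (Fin n) k,
          (X i : MvPowerSeries (Fin n) k) = ∑ j, h j * pderiv k j g + g * r := by
        intro i
        obtain ⟨x, hx, hxi⟩ := hX i
        have h1 := hmem x (hJm ▸ hx)
        rw [hxi, Ideal.mem_span_range_iff_exists_fun] at h1
        obtain ⟨c, hc⟩ := h1
        choose h hh using fun j => Ideal.Quotient.mk_surjective (I := Ideal.span {g}) (c j)
        simp only [← hh, ← map_mul, ← map_sum] at hc
        rw [eq_comm, Ideal.Quotient.eq, Ideal.mem_span_singleton] at hc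
        obtain ⟨r, hr⟩ := hc
        exact ⟨h, r, by rw [← hr]; ring⟩
      choose h r hr using hrow
      have hprod : Matrix.of (fun i j => constantCoeff (h i j)) * M.transpose = 1 := by
        ext i l
        have h1 : d1 (X i : MvPowerSeries (Fin n) k) l =
            ∑ j, constantCoeff (h i j) * d2 g l j := by
          conv_lhs => rw [hr i]
          simp only [d1, d2, map_add, map_sum, Derivation.leibniz, smul_eq_mul, map_mul, hd1g,
            zero_mul, mul_zero, zero_add, add_zero, hlow.1]
        rw [Matrix.mul_apply]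
        simp only [M, Matrix.of_apply, Matrix.transpose_apply, ← d2_eq_polar]
        rw [← h1, d1, pderiv_X]
        by_cases hil : i = l
        · subst hil; simp
        · simp [Matrix.one_apply, Pi.single_apply, hil, Ne.symm hil]
      have := Matrix.isUnit_det_of_left_inverse hprod
      rwa [Matrix.det_transpose] at this
    · intro hM
      refine le_antisymm ?_ ?_
      · rw [hJ, Ideal.span_le]
        rintro _ ⟨j, rfl⟩
        exact (IsLocalization.AtPrime.map_eq_maximalIdeal P (Localization.AtPrime P)).le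
          (Ideal.mem_map_of_mem _ (hP j))
      · refine le_of_le_sup_sq (O := Localization.AtPrime P) J ?_
        intro x hx
        obtain ⟨F, hF, hFx⟩ := (Ideal.mem_map_iff_of_surjective _ Ideal.Quotient.mk_surjective).mp
          (hle1 x hx)
        let b : Fin n → k := (M.transpose)⁻¹.vecMul (d1 F)
        let y : Localization.AtPrime P := ∑ j, algebraMap k _ (b j) * algebraMap _ _
          (Ideal.Quotient.mk (Ideal.span {f}) (MvPolynomial.pderiv j f))
        have hy : y ∈ J := Ideal.sum_mem _ fun j _ => Ideal.mul_mem_left _ _ (Ideal.subset_span ⟨j, rfl⟩)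
        have hbM : ∀ l, ∑ j, b j * d2 g l j = d1 F l := fun l => by
          have hinv : (M.transpose)⁻¹ * M.transpose = 1 :=
            Matrix.nonsing_inv_mul _ (by rwa [Matrix.det_transpose])
          have := congrFun (Matrix.vecMul_vecMul (d1 F) (M.transpose)⁻¹ M.transpose) l
          rw [hinv, Matrix.vecMul_one] at this
          rw [← this]
          simp [Matrix.vecMul, dotProduct, b, d2_eq_polar, M]
        have hord : OrdGE 2 (F - ∑ j, C (b j) * pderiv k j g) := by
          intro d hd
          rcases (by omega : d.degree = 0 ∨ d.degree = 1) with h0 | h1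
          · obtain rfl := (Finsupp.degree_eq_zero_iff d).mp h0
            simp [hd1g, mem_maximalIdeal_iff.1 hF]
          · obtain ⟨l, rfl⟩ := exists_single h1
            rw [← d1_eq_coeff]
            simp only [d1, map_sub, map_sum, Derivation.leibniz, smul_eq_mul, map_add, map_mul,
              pderiv_C, mul_zero, map_zero, add_zero, constantCoeff_C]
            rw [sub_eq_zero]
            exact (hbM l).symm
        have hxy : x - y ∈ maximalIdeal (Localization.AtPrime P) ^ 2 := by
          refine hinj 2 _ ?_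
          have hphiy : φ y = Ideal.Quotient.mk (Ideal.span {g}) (∑ j, C (b j) * pderiv k j g) := by
            simp only [y, map_sum, map_mul, hgen, AlgHom.commutes]
            rfl
          rw [map_sub, ← hFx, hphiy, ← map_sub, ← Ideal.map_pow]
          exact Ideal.mem_map_of_mem _ (mem_pow_of_ordGE 2 hord)
        rw [Submodule.mem_sup]
        refine ⟨y, hy, x - y, ?_, by ring⟩
        exact hxy
  rw [hiff]
  constructor
  · exact fun hM => ⟨g, ⟨hlow, hM⟩, hiso⟩
  · rintro ⟨h, hh, ⟨e⟩⟩
    obtain ⟨e₀⟩ := hiso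
    exact (nondeg_of_equiv hn hlow hh (e.symm.trans e₀)).2

end QS97
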