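import Groth.Agent.QS97.Formal
import Mathlib

/-!
# Translations of power series over adically complete rings

`QS97.trans`: `x ↦ x + c` on `A[[x]]` for `c` in an ideal for which `A` is complete;
`QS97.exists_translate_critical`: translation killing the linear part when the polar matrix of the
quadratic part is invertible.
-/

set_option autoImplicit false

universe u

namespace QS97

open MvPowerSeries Groth.Agent.CAlg6
open scoped MvPowerSeries.WithPiTopology

variable {A : Type u} [CommRing A] [WithIdeal A] [IsAdicComplete (WithIdeal.i (R := A)) A] {n : ℕ}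

instance completeSpace_withIdeal : CompleteSpace A :=
  ((IsAdic.isAdicComplete_iff (I := (WithIdeal.i : Ideal A)) rfl).mp inferInstance).1

instance t2Space_withIdeal : T2Space A :=
  ((IsAdic.isAdicComplete_iff (I := (WithIdeal.i : Ideal A)) rfl).mp inferInstance).2

theorem hasEval_trans {c : Fin n → A} (hc : ∀ i, c i ∈ (WithIdeal.i : Ideal A)) :
    HasEval (fun i => (X i + C (c i) : MvPowerSeries (Fin n) A)) where
  hpow s := by
    apply LinearTopology.isTopologicallyNilpotent_of_constantCoeff
    rw [map_add, constantCoeff_X, constantCoeff_C, zero_add]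
    exact WithIdeal.isTopologicallyNilpotent_of_mem (hc s)
  tendsto_zero := by rw [Filter.cofinite_eq_bot]; exact Filter.tendsto_bot

/-- The translation `x ↦ x + c`. -/
noncomputable def trans (c : Fin n → A) (hc : ∀ i, c i ∈ (WithIdeal.i : Ideal A)) :
    MvPowerSeries (Fin n) A →ₐ[A] MvPowerSeries (Fin n) A :=
  aeval (hasEval_trans hc)

theorem continuous_trans {c : Fin n → A} (hc : ∀ i, c i ∈ (WithIdeal.i : Ideal A)) :
    Continuous (trans c hc) :=
  continuous_aeval _

theorem trans_coe {c : Fin n → A} (hc : ∀ i, c i ∈ (WithIdeal.i : Ideal A))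
    (p : MvPolynomial (Fin n) A) :
    trans c hc (p : MvPowerSeries (Fin n) A) = p.aeval fun i => X i + C (c i) :=
  aeval_coe _ p

theorem trans_X {c : Fin n → A} (hc : ∀ i, c i ∈ (WithIdeal.i : Ideal A)) (i : Fin n) :
    trans c hc (X i) = X i + C (c i) := by
  have h := trans_coe hc (MvPolynomial.X i)
  rwa [MvPolynomial.coe_X, MvPolynomial.aeval_X] at h

theorem trans_C {c : Fin n → A} (hc : ∀ i, c i ∈ (WithIdeal.i : Ideal A)) (a : A) :
    trans c hc (C a) = C a :=
  (trans c hc).commutes a

theorem ext_of_continuous {φ ψ : MvPowerSeries (Fin n) A →ₐ[A] MvPowerSeries (Fin n) A}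
    (hφ : Continuous φ) (hψ : Continuous ψ) (h : ∀ i, φ (X i) = ψ (X i)) : φ = ψ := by
  refine DFunLike.ext' (hφ.ext_on (WithPiTopology.denseRange_toMvPowerSeries) hψ ?_)
  rintro _ ⟨p, rfl⟩
  have : φ.comp (MvPolynomial.coeToMvPowerSeries.algHom A) =
      ψ.comp (MvPolynomial.coeToMvPowerSeries.algHom A) :=
    MvPolynomial.algHom_ext fun i => by simpa using h i
  simpa using DFunLike.congr_fun this p

theorem trans_comp {c d e : Fin n → A} (hc : ∀ i, c i ∈ (WithIdeal.i : Ideal A))
    (hd : ∀ i, d i ∈ (WithIdeal.i : Ideal A)) (he : ∀ i, e i ∈ (WithIdeal.i : Ideal A))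
    (h : ∀ i, e i = c i + d i) : (trans c hc).comp (trans d hd) = trans e he :=
  ext_of_continuous ((continuous_trans hc).comp (continuous_trans hd)) (continuous_trans he)
    fun i => by
      rw [AlgHom.comp_apply, trans_X, trans_X, map_add, trans_X, trans_C, h, map_add]; ring

theorem trans_zero {c : Fin n → A} (hc : ∀ i, c i ∈ (WithIdeal.i : Ideal A)) (h : ∀ i, c i = 0) :
    trans c hc = AlgHom.id A _ :=
  ext_of_continuous (continuous_trans hc) continuous_id fun i => by
    rw [trans_X, h, map_zero, add_zero]; rfl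

/-- Series all of whose coefficients lie in `J`. -/
noncomputable def coeffIdeal (n : ℕ) (J : Ideal A) : Ideal (MvPowerSeries (Fin n) A) :=
  RingHom.ker (MvPowerSeries.map (Ideal.Quotient.mk J))

omit [WithIdeal A] [IsAdicComplete (WithIdeal.i (R := A)) A] in
theorem mem_coeffIdeal {J : Ideal A} {f : MvPowerSeries (Fin n) A} :
    f ∈ coeffIdeal n J ↔ ∀ e, coeff e f ∈ J := by
  rw [coeffIdeal, RingHom.mem_ker, MvPowerSeries.ext_iff]
  simp [Ideal.Quotient.eq_zero_iff_mem]

/-- The error of the first order Taylor formula. -/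
noncomputable def taylorErr (c : Fin n → A) (hc : ∀ i, c i ∈ (WithIdeal.i : Ideal A))
    (f : MvPowerSeries (Fin n) A) : MvPowerSeries (Fin n) A :=
  trans c hc f - f - ∑ i, C (c i) * pderiv A i f

theorem isClosed_pow (N : ℕ) : IsClosed (((WithIdeal.i : Ideal A) ^ N : Ideal A) : Set A) :=
  AddSubgroup.isClosed_of_isOpen ((WithIdeal.i : Ideal A) ^ N).toAddSubgroup
    ((isAdic_iff.mp (rfl : IsAdic (WithIdeal.i : Ideal A))).1 N)

theorem taylorErr_mem {k : ℕ} {c : Fin n → A} (hc : ∀ i, c i ∈ (WithIdeal.i : Ideal A))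
    (hk : ∀ i, c i ∈ (WithIdeal.i : Ideal A) ^ k) (f : MvPowerSeries (Fin n) A) :
    taylorErr c hc f ∈ coeffIdeal n ((WithIdeal.i : Ideal A) ^ (k + k)) := by
  classical
  have hclosed : IsClosed {f : MvPowerSeries (Fin n) A |
      taylorErr c hc f ∈ coeffIdeal n ((WithIdeal.i : Ideal A) ^ (k + k))} := by
    simp only [mem_coeffIdeal, Set.setOf_forall]
    refine isClosed_iInter fun e => (isClosed_pow (k + k)).preimage ?_
    simp only [taylorErr, map_sub, map_sum, coeff_C_mul, coeff_pderiv]
    refine ((((WithPiTopology.continuous_coeff A e).comp (continuous_trans hc))).sub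
      (WithPiTopology.continuous_coeff A e)).sub (continuous_finset_sum _ fun i _ => ?_)
    exact continuous_const.mul ((WithPiTopology.continuous_coeff A _).mul continuous_const)
  have hdense := WithPiTopology.denseRange_toMvPowerSeries (σ := Fin n) (R := A)
  refine hdense.induction_on (p := fun f => taylorErr c hc f ∈ coeffIdeal n ((WithIdeal.i : Ideal A) ^ (k + k))) f hclosed fun p => ?_
  induction p using MvPolynomial.induction_on with
  | C a => simp [taylorErr, MvPolynomial.coe_C, trans_C]
  | add p q hp hq =>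
    have : taylorErr c hc (((p + q : MvPolynomial (Fin n) A) : MvPowerSeries (Fin n) A)) =
        taylorErr c hc (p : MvPowerSeries (Fin n) A) + taylorErr c hc (q : MvPowerSeries (Fin n) A) := by
      simp only [taylorErr, MvPolynomial.coe_add, map_add, mul_add, Finset.sum_add_distrib]; ring
    rw [this]; exact Ideal.add_mem _ hp hq
  | mul_X p j hp =>
    have hX : ∀ i, pderiv A i (X j : MvPowerSeries (Fin n) A) = if i = j then 1 else 0 := fun i => by
      rw [pderiv_X]; simp [Pi.single_apply, eq_comm]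
    have : taylorErr c hc (((p * MvPolynomial.X j : MvPolynomial (Fin n) A) : MvPowerSeries (Fin n) A)) =
        taylorErr c hc (p : MvPowerSeries (Fin n) A) * (X j + C (c j)) +
          ∑ i, C (c i * c j) * pderiv A i (p : MvPowerSeries (Fin n) A) := by
      simp only [taylorErr, MvPolynomial.coe_mul, MvPolynomial.coe_X, map_mul, trans_X,
        Derivation.leibniz, smul_eq_mul, hX, mul_ite, mul_one, mul_zero, mul_add,
        Finset.sum_add_distrib, Finset.sum_ite_eq', Finset.mem_univ, if_true]
      simp only [Finset.sum_mul, sub_mul, mul_assoc, mul_comm (X j), mul_comm (C (c j))]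
      ring
    rw [this]
    refine Ideal.add_mem _ (Ideal.mul_mem_right _ _ hp) (Ideal.sum_mem _ fun i _ => ?_)
    rw [mem_coeffIdeal]
    intro e
    rw [coeff_C_mul]
    exact Ideal.mul_mem_right _ _ (pow_add (WithIdeal.i : Ideal A) k k ▸ Ideal.mul_mem_mul (hk i) (hk j))

theorem coeff_trans_sub_mem {k : ℕ} {c : Fin n → A} (hc : ∀ i, c i ∈ (WithIdeal.i : Ideal A))
    (hk : ∀ i, c i ∈ (WithIdeal.i : Ideal A) ^ k) (f : MvPowerSeries (Fin n) A) (e : Fin n →₀ ℕ) :
    coeff e (trans c hc f) - coeff e f ∈ (WithIdeal.i : Ideal A) ^ k := by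
  have h := mem_coeffIdeal.mp (taylorErr_mem hc hk f) e
  simp only [taylorErr, map_sub, map_sum, coeff_C_mul] at h
  have h2 := Ideal.pow_le_pow_right (Nat.le_add_right k k) h
  have h3 : ∑ i, c i * coeff e (pderiv A i f) ∈ (WithIdeal.i : Ideal A) ^ k :=
    Ideal.sum_mem _ fun i _ => Ideal.mul_mem_right _ _ (hk i)
  simpa using Ideal.add_mem _ h2 h3

/-- The linear part. -/
noncomputable def lin (f : MvPowerSeries (Fin n) A) (j : Fin n) : A := coeff (Finsupp.single j 1) f

/-- The Hessian at the origin. -/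
noncomputable def hess (f : MvPowerSeries (Fin n) A) : Matrix (Fin n) (Fin n) A :=
  fun j i => coeff (Finsupp.single j 1) (pderiv A i f)

theorem exists_translate_critical [IsLocalRing A]
    (hI : (WithIdeal.i : Ideal A) ≤ IsLocalRing.maximalIdeal A) (F : MvPowerSeries (Fin n) A)
    (hlin : ∀ j, lin F j ∈ (WithIdeal.i : Ideal A)) (hH : IsUnit (hess F).det) :
    ∃ (τ : MvPowerSeries (Fin n) A ≃ₐ[A] MvPowerSeries (Fin n) A),
      (∀ j, lin (τ F) j = 0) ∧ ∀ e, coeff e (τ F) - coeff e F ∈ (WithIdeal.i : Ideal A) := by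
  classical
  let I : Ideal A := WithIdeal.i
  have hunit : ∀ (c : Fin n → A) (hc : ∀ i, c i ∈ I), IsUnit (hess (trans c hc F)).det := by
    intro c hc
    have hmap : (hess (trans c hc F)).map (Ideal.Quotient.mk I) =
        (hess F).map (Ideal.Quotient.mk I) := by
      ext j i
      simp only [Matrix.map_apply, hess, coeff_pderiv, Ideal.Quotient.eq]
      rw [← sub_mul]
      exact Ideal.mul_mem_right _ _ (by simpa using coeff_trans_sub_mem (k := 1) hc (by simpa using hc) F _)
    have h := hH.map (Ideal.Quotient.mk I)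
    rw [RingHom.map_det, RingHom.mapMatrix_apply, ← hmap, ← RingHom.mapMatrix_apply,
      ← RingHom.map_det] at h
    by_contra hu
    have hm : (hess (trans c hc F)).det ∈ IsLocalRing.maximalIdeal A :=
      (IsLocalRing.mem_maximalIdeal _).mpr hu
    obtain ⟨b, hb⟩ := isUnit_iff_exists_inv.mp h
    obtain ⟨b, rfl⟩ := Ideal.Quotient.mk_surjective b
    rw [← map_mul, ← map_one (Ideal.Quotient.mk I), Ideal.Quotient.eq] at hb
    have := Ideal.sub_mem _ (Ideal.mul_mem_right b _ hm) (hI hb)
    rw [sub_sub_cancel] at this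
    exact (IsLocalRing.maximalIdeal.isMaximal A).ne_top ((Ideal.eq_top_iff_one _).mpr this)
  have hstep : ∀ (t : ℕ) (c : {c : Fin n → A // ∀ i, c i ∈ I}),
      (∀ j, lin (trans c.1 c.2 F) j ∈ I ^ (t + 1)) →
      ∃ c' : {c : Fin n → A // ∀ i, c i ∈ I}, (∀ i, c'.1 i - c.1 i ∈ I ^ (t + 1)) ∧
        ∀ j, lin (trans c'.1 c'.2 F) j ∈ I ^ (t + 2) := by
    rintro t ⟨c, hc⟩ ht
    let G := trans c hc F
    let d : Fin n → A := fun i => - ∑ j, (hess G)⁻¹ i j * lin G j
    have hdk : ∀ i, d i ∈ I ^ (t + 1) := fun i =>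
      Ideal.neg_mem_iff _ |>.mpr (Ideal.sum_mem _ fun j _ => Ideal.mul_mem_left _ _ (ht j))
    have hd : ∀ i, d i ∈ I := fun i => Ideal.pow_le_self (by omega) (hdk i)
    have hcd : ∀ i, d i + c i ∈ I := fun i => Ideal.add_mem _ (hd i) (hc i)
    refine ⟨⟨fun i => d i + c i, hcd⟩, fun i => by simpa using hdk i, fun j => ?_⟩
    have hG : trans (fun i => d i + c i) hcd F = trans d hd G := by
      rw [← trans_comp hd hc hcd (fun i => rfl)]; rfl
    show lin (trans (fun i => d i + c i) hcd F) j ∈ _
    rw [hG]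
    have h := mem_coeffIdeal.mp (taylorErr_mem hd hdk G) (Finsupp.single j 1)
    simp only [taylorErr, map_sub, map_sum, coeff_C_mul] at h
    have hsum : ∑ i, d i * coeff (Finsupp.single j 1) (pderiv A i G) = - lin G j := by
      have : (hess G).mulVec (fun i => d i) = fun j => - lin G j := by
        have : (fun i => d i) = - ((hess G)⁻¹.mulVec (lin G)) := rfl
        rw [this, Matrix.mulVec_neg, Matrix.mulVec_mulVec, Matrix.mul_nonsing_inv _ (hunit c hc),
          Matrix.one_mulVec]
        rfl
      rw [← congrFun this j]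
      exact Finset.sum_congr rfl fun i _ => mul_comm _ _
    rw [hsum] at h
    have h' : lin (trans d hd G) j ∈ I ^ (t + 1 + (t + 1)) := by simpa [lin] using h
    exact Ideal.pow_le_pow_right (by omega) h'
  choose! next hnext1 hnext2 using hstep
  let s : ℕ → {c : Fin n → A // ∀ i, c i ∈ I} :=
    fun t => Nat.rec ⟨0, fun _ => I.zero_mem⟩ (fun t c => next t c) t
  have hs : ∀ t j, lin (trans (s t).1 (s t).2 F) j ∈ I ^ (t + 1) := by
    intro t
    induction t with
    | zero =>
      intro j
      rw [zero_add, pow_one, trans_zero (c := (s 0).1) _ (fun i => rfl)]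
      exact hlin j
    | succ t ih => exact hnext2 t (s t) ih
  have hdiff : ∀ t i, (s (t + 1)).1 i - (s t).1 i ∈ I ^ (t + 1) := fun t => hnext1 t (s t) (hs t)
  have hcauchy : ∀ i, ∀ {p q : ℕ}, p ≤ q →
      (s p).1 i ≡ (s q).1 i [SMOD (I ^ p • ⊤ : Submodule A A)] := by
    intro i p q hpq
    rw [SModEq.sub_mem, smul_eq_mul, Ideal.mul_top]
    induction hpq with
    | refl => simp
    | @step r hr ih =>
      rw [show (s p).1 i - (s (r + 1)).1 i = ((s p).1 i - (s r).1 i) - ((s (r + 1)).1 i - (s r).1 i) by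
        ring]
      exact Ideal.sub_mem _ ih (Ideal.pow_le_pow_right (Nat.le_succ_of_le hr) (hdiff r i))
  have hlim : ∀ i, ∃ L : A, ∀ p, (s p).1 i - L ∈ I ^ p := fun i => by
    obtain ⟨L, hL⟩ := IsPrecomplete.prec inferInstance (hcauchy i)
    exact ⟨L, fun p => by simpa [SModEq.sub_mem, smul_eq_mul, Ideal.mul_top] using hL p⟩
  choose L hL using hlim
  have hLI : ∀ i, L i ∈ I := fun i => by
    have := Ideal.sub_mem _ ((s 1).2 i) (by simpa using hL i 1)
    simpa using this
  have hneg : ∀ i, -L i ∈ I := fun i => I.neg_mem (hLI i)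
  let τ : MvPowerSeries (Fin n) A ≃ₐ[A] MvPowerSeries (Fin n) A :=
    AlgEquiv.ofAlgHom (trans L hLI) (trans (fun i => -L i) hneg)
      ((trans_comp hLI hneg (e := fun _ => 0) (fun _ => I.zero_mem) (fun i => by simp)).trans
        (trans_zero _ fun _ => rfl))
      ((trans_comp hneg hLI (e := fun _ => 0) (fun _ => I.zero_mem) (fun i => by simp)).trans
        (trans_zero _ fun _ => rfl))
  refine ⟨τ, fun j => ?_, fun e => ?_⟩
  · refine IsHausdorff.haus (I := I) inferInstance _ fun p => ?_
    rw [SModEq.sub_mem, sub_zero, smul_eq_mul, Ideal.mul_top]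
    have hd : ∀ i, L i - (s p).1 i ∈ I := fun i => I.sub_mem (hLI i) ((s p).2 i)
    have hdp : ∀ i, L i - (s p).1 i ∈ I ^ p := fun i => by
      simpa using (I ^ p).neg_mem (hL i p)
    have hG : trans L hLI F = trans (fun i => L i - (s p).1 i) hd (trans (s p).1 (s p).2 F) := by
      rw [← trans_comp hd (s p).2 hLI (fun i => (sub_add_cancel _ _).symm)]; rfl
    show lin (trans L hLI F) j ∈ _
    rw [hG]
    have h1 := coeff_trans_sub_mem hd hdp (trans (s p).1 (s p).2 F) (Finsupp.single j 1)
    have h2 := Ideal.pow_le_pow_right (Nat.le_succ p) (hs p j)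
    have h3 := Ideal.add_mem _ h1 h2
    simpa [lin] using h3
  · exact (pow_one I).le (coeff_trans_sub_mem (k := 1) hLI (by simpa using hLI) F e)

end QS97
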